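import Groth.Agent.Var76.OrbitSmooth
import Groth.Agent.SchBasics.EtaleQF
import Groth.Agent.Alb96.GeomInt
import Groth.Agent.AbSch7.SmoothFib

/-!
# Isogenies in characteristic zero are étale
-/

set_option autoImplicit false
set_option linter.style.haveILetI false
set_option backward.isDefEq.respectTransparency.types false

universe u

open CategoryTheory CategoryTheory.Limits MonoidalCategory CartesianMonoidalCategory AlgebraicGeometry
open scoped MonObj

noncomputable section

namespace Groth.Agent.IsogPull96

variable {k : Type u} [Field k] {A B : Over (Spec (CommRingCat.of k))} [GrpObj A] [GrpObj B]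

/-- The source of a homomorphism acts on the target by translations. -/
def homAction (π : A ⟶ B) [IsMonHom π] : AlgGrp.Action A B where
  act := (fst A B ≫ π) * snd A B
  one_act := by
    rw [MonObj.comp_mul]
    simp [IsMonHom.one_hom, leftUnitor_hom]
    rw [MonObj.one_eq_one, MonObj.comp_one]
  mul_act := by
    simp [MonObj.comp_mul, MonObj.mul_comp, MonObj.mul_eq_mul, mul_assoc]

variable [IsAlgClosed k]

/-- A surjective morphism of finite type schemes is surjective on rational points. -/
theorem exists_lift_point [LocallyOfFiniteType A.hom] [LocallyOfFiniteType B.hom] (π : A ⟶ B)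
    [Surjective π.left] (y : 𝟙_ (Over (Spec (CommRingCat.of k))) ⟶ B) :
    ∃ x : 𝟙_ (Over (Spec (CommRingCat.of k))) ⟶ A, x ≫ π = y := by
  haveI := LocallyOfFiniteType.jacobsonSpace A.hom
  have hy : IsClosed ({y.left (IsLocalRing.closedPoint k)} : Set B.left) :=
    ((pointEquivClosedPoint B.hom) ⟨y.left, Over.w y⟩).2
  obtain ⟨z, hz, hzc⟩ := nonempty_inter_closedPoints
    (Function.Surjective.nonempty_preimage π.left.surjective |>.2 (Set.singleton_nonempty _))
    (hy.preimage π.left.continuous).isLocallyClosed
  refine ⟨Var76.ActTrans.sec A z hzc, Over.OverMorphism.ext ?_⟩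
  refine ext_of_apply_closedPoint_eq B.hom (Over.w _) (Over.w y) ?_
  show π.left ((Var76.ActTrans.sec A z hzc).left (IsLocalRing.closedPoint k)) = _
  rw [Var76.ActTrans.sec_apply]
  exact hz

/-- A finite surjective homomorphism of connected smooth groups in characteristic zero is étale. -/
theorem etale_of_isogeny [CharZero k] [IsProper A.hom] [Smooth A.hom] [GeometricallyIntegral A.hom]
    [IsProper B.hom] [Smooth B.hom] [GeometricallyIntegral B.hom]
    (π : A ⟶ B) [IsMonHom π] [IsFinite π.left] [Surjective π.left] : Etale π.left := by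
  haveI : IsIntegral A.left := GeometricallyIntegral.isIntegral_of_subsingleton A.hom
  haveI : IsIntegral B.left := GeometricallyIntegral.isIntegral_of_subsingleton B.hom
  have htrans : ∀ x x' : 𝟙_ (Over (Spec (CommRingCat.of k))) ⟶ B,
      ∃ σ : 𝟙_ (Over (Spec (CommRingCat.of k))) ⟶ A, lift σ x ≫ (homAction π).act = x' := by
    intro x x'
    obtain ⟨σ, hσ⟩ := exists_lift_point π (x' * x⁻¹)
    refine ⟨σ, ?_⟩
    show lift σ x ≫ ((fst A B ≫ π) * snd A B) = x'
    rw [MonObj.comp_mul, lift_fst_assoc, lift_snd, hσ, inv_mul_cancel_right]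
  have h := Var76.ActTrans.smooth_orbit (homAction π) htrans 1
  have ho : (homAction π).orbitMap 1 = π := by
    show lift (𝟙 A) (toUnit A ≫ 1) ≫ ((fst A B ≫ π) * snd A B) = π
    rw [MonObj.comp_mul, lift_fst_assoc, lift_snd, Category.id_comp, MonObj.comp_one, mul_one]
  rw [ho] at h
  haveI := h
  exact (SchBasics.etale_iff_smooth_and_locallyQuasiFinite π.left).2 ⟨inferInstance, inferInstance⟩

end Groth.Agent.IsogPull96
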