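import Groth.Agent.IsogPull96.Split
import Groth.Agent.IsogPull96.Etale
import Groth.Agent.FMK72.BaseChange
import Groth.Agent.Sga84.Epi

/-!
# The pullback of a pushforward along an étale isogeny
-/

set_option autoImplicit false
set_option linter.style.haveILetI false
set_option linter.unusedSectionVars false
set_option backward.isDefEq.respectTransparency.types false

universe u

open CategoryTheory CategoryTheory.Limits MonoidalCategory CartesianMonoidalCategory AlgebraicGeometry
open IsLocalRing
open scoped MonObj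

noncomputable section

namespace Groth.Agent.IsogPull96

variable {k : Type u} [Field k] [IsAlgClosed k] {A B : Over (Spec (CommRingCat.of k))} [GrpObj A] [GrpObj B]

/-- `π^*π_*E` is the sum of the translates of `E` by the kernel. -/
theorem nonempty_pullback_pushforward_iso [IsProper A.hom] [IsSeparated B.hom] [LocallyOfFiniteType B.hom]
    (π : A ⟶ B) [IsMonHom π] [IsFinite π.left] [Etale π.left] (E : A.left.Modules) [E.IsQuasicoherent] :
    Nonempty ((Scheme.Modules.pullback π.left).obj ((Scheme.Modules.pushforward π.left).obj E) ≅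
      ∐ fun a : {a : 𝟙_ (Over (Spec (CommRingCat.of k))) ⟶ A // a ≫ π = 1} =>
        (Scheme.Modules.pullback (𝟙 A * (toUnit A ≫ a.1)).left).obj E) := by
  let K := {a : 𝟙_ (Over (Spec (CommRingCat.of k))) ⟶ A // a ≫ π = 1}
  haveI := LocallyOfFiniteType.jacobsonSpace A.hom
  haveI : Finite K := by
    haveI := (π.left.finite_preimage_singleton
      ((1 : 𝟙_ (Over (Spec (CommRingCat.of k))) ⟶ B).left (closedPoint k))).to_subtype
    refine Finite.of_injective (β := (π.left ⁻¹' {(1 : 𝟙_ (Over (Spec (CommRingCat.of k))) ⟶ B).left (closedPoint k)} : Set A.left))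
      (fun a => ⟨a.1.left (closedPoint k), by
        show π.left (a.1.left (closedPoint k)) = _
        rw [← Scheme.Hom.comp_apply, ← Over.comp_left, a.2]⟩) fun a b h => ?_
    exact Subtype.ext (Over.OverMorphism.ext
      (ext_of_apply_closedPoint_eq A.hom (Over.w a.1) (Over.w b.1) (congrArg Subtype.val h)))
  let t : K → (A ⟶ A) := fun a => 𝟙 A * (toUnit A ≫ a.1)
  have ht : ∀ a, t a ≫ π = π := fun a => by
    rw [MonObj.mul_comp, Category.id_comp, Category.assoc, a.2, MonObj.comp_one, mul_one]
  let p := pullback.snd π.left π.left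
  let s : K → (A.left ⟶ pullback π.left π.left) := fun a =>
    pullback.lift (t a).left (𝟙 _) (by rw [← Over.comp_left, ht a, Category.id_comp])
  have hs : ∀ a, s a ≫ p = 𝟙 A.left := fun a => pullback.lift_snd _ _ _
  have hsf : ∀ a, s a ≫ pullback.fst π.left π.left = (t a).left := fun a => pullback.lift_fst _ _ _
  haveI : Etale p := MorphismProperty.pullback_snd (P := @Etale) _ _ inferInstance
  haveI : IsFinite p := MorphismProperty.pullback_snd (P := @IsFinite) _ _ inferInstance
  haveI : ∀ a, IsOpenImmersion (s a) := fun a => by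
    haveI : Etale (s a ≫ p) := by rw [hs a]; infer_instance
    haveI : Etale (s a) := Etale.of_comp (s a) p
    haveI : IsClosedImmersion (s a ≫ p) := by rw [hs a]; infer_instance
    haveI : IsClosedImmersion (s a) := IsClosedImmersion.of_comp (s a) p
    exact Sga84.isOpenImmersion_of_etale (s a)
  let q := p ≫ A.hom
  haveI : JacobsonSpace (pullback π.left π.left : Scheme.{u}) := LocallyOfFiniteType.jacobsonSpace q
  have hdisj : ∀ a b, a ≠ b → Disjoint (Set.range (s a)) (Set.range (s b)) := by
    intro a b hab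
    rw [Set.disjoint_iff_inter_eq_empty]
    by_contra hne
    obtain ⟨w, ⟨⟨x, hx⟩, ⟨y, hy⟩⟩, hwc⟩ := nonempty_inter_closedPoints (Set.nonempty_iff_ne_empty.2 hne)
      (((s a).opensRange ⊓ (s b).opensRange).2.isLocallyClosed)
    have hxy : x = y := by
      have h1 := congrArg p (hx.trans hy.symm)
      rwa [← Scheme.Hom.comp_apply, ← Scheme.Hom.comp_apply, hs, hs] at h1
    subst hxy
    have hxc : IsClosed ({x} : Set A.left) := by
      have h1 : ({x} : Set A.left) = p '' {w} := by
        rw [Set.image_singleton, ← hx, ← Scheme.Hom.comp_apply, hs]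
        rfl
      rw [h1]
      exact p.isClosedMap _ hwc
    apply hab
    let r := Var76.ActTrans.sec A x hxc
    have h2 : (r ≫ t a).left (closedPoint k) = (r ≫ t b).left (closedPoint k) := by
      show (t a).left (r.left _) = (t b).left (r.left _)
      rw [Var76.ActTrans.sec_apply, ← hsf, ← hsf, Scheme.Hom.comp_apply, Scheme.Hom.comp_apply, hx, hy]
    have h3 : r ≫ t a = r ≫ t b := Over.OverMorphism.ext
      (ext_of_apply_closedPoint_eq A.hom (Over.w _) (Over.w _) h2)
    simp only [t, MonObj.comp_mul, Category.comp_id, ← Category.assoc] at h3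
    rw [toUnit_unique (r ≫ toUnit A) (𝟙 _), Category.id_comp, Category.id_comp] at h3
    exact Subtype.ext (mul_left_cancel h3)
  have hcov : ∀ y : (pullback π.left π.left : Scheme.{u}), ∃ a, y ∈ Set.range (s a) := by
    by_contra hne
    push Not at hne
    obtain ⟨y, hy⟩ := hne
    obtain ⟨w, hw, hwc⟩ := nonempty_inter_closedPoints
      (Z := (⋃ a, Set.range (s a))ᶜ) ⟨y, by simpa using hy⟩
      (isOpen_iUnion fun a => (s a).isOpenEmbedding.isOpen_range).isClosed_compl.isLocallyClosed
    let σ := pointOfClosedPoint q w hwc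
    have hσ : σ ≫ q = 𝟙 _ := pointOfClosedPoint_comp _ _ _
    have hq : pullback.fst π.left π.left ≫ A.hom = q := by
      show _ = pullback.snd π.left π.left ≫ A.hom
      rw [← Over.w π]
      exact pullback.condition_assoc _
    let x₁ : 𝟙_ (Over (Spec (CommRingCat.of k))) ⟶ A :=
      Over.homMk (σ ≫ pullback.fst π.left π.left) (by rw [Category.assoc, hq]; exact hσ)
    let x₂ : 𝟙_ (Over (Spec (CommRingCat.of k))) ⟶ A := Over.homMk (σ ≫ p) (by rw [Category.assoc]; exact hσ)
    have hπ : x₁ ≫ π = x₂ ≫ π := Over.OverMorphism.ext (by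
      show (σ ≫ _) ≫ π.left = (σ ≫ p) ≫ π.left
      rw [Category.assoc, Category.assoc, pullback.condition])
    let a : K := ⟨x₂⁻¹ * x₁, by rw [MonObj.mul_comp, GrpObj.inv_comp, hπ, inv_mul_cancel]⟩
    have ha : x₂ ≫ t a = x₁ := by
      show x₂ ≫ (𝟙 A * (toUnit A ≫ (x₂⁻¹ * x₁))) = x₁
      rw [MonObj.comp_mul, Category.comp_id, ← Category.assoc, toUnit_unique (x₂ ≫ toUnit A) (𝟙 _),
        Category.id_comp, mul_inv_cancel_left]
    have hsa : x₂.left ≫ s a = σ := by
      refine pullback.hom_ext ?_ ?_
      · rw [Category.assoc, hsf, ← Over.comp_left, ha]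
        rfl
      · rw [Category.assoc, hs, Category.comp_id]
        rfl
    refine hw (Set.mem_iUnion.2 ⟨a, x₂.left (closedPoint k), ?_⟩)
    rw [← Scheme.Hom.comp_apply, hsa]
    exact pointOfClosedPoint_apply _ _ _ _
  obtain ⟨e⟩ := nonempty_push_iso p s hs hdisj hcov
    ((Scheme.Modules.pullback (pullback.fst π.left π.left)).obj E)
  have H : IsPullback (pullback.snd π.left π.left) (pullback.fst π.left π.left) π.left π.left :=
    (IsPullback.of_hasPullback π.left π.left).flip
  haveI := FMK72.isIso_bcNat_app H.w H E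
  exact ⟨asIso ((FMK72.bcNat H.w).app E) ≪≫ e ≪≫ Sigma.mapIso fun a =>
    (Scheme.Modules.pullbackComp (s a) _).app E ≪≫ (Scheme.Modules.pullbackCongr (hsf a)).app E⟩

end Groth.Agent.IsogPull96
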