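import Groth.Agent.Curves2.Glue.Prod
import Mathlib.CategoryTheory.Limits.Shapes.Biproducts
import Mathlib.Topology.Sheaves.SheafCondition.UniqueGluing

/-!
# Pushforward along a finite disjoint union of sections
-/

set_option autoImplicit false
set_option backward.isDefEq.respectTransparency.types false
set_option linter.unusedSectionVars false
set_option linter.style.haveILetI false

universe u

open CategoryTheory CategoryTheory.Limits AlgebraicGeometry TopologicalSpace Opposite

noncomputable section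

namespace Groth.Agent.IsogPull96

variable {P Y : Scheme.{u}}

theorem subsingleton_bot (M : P.Modules) : Subsingleton Γ(M, (⊥ : P.Opens)) := by
  let S : TopCat.Sheaf AddCommGrpCat.{u} P := ⟨M.presheaf, M.isSheaf⟩
  exact ⟨fun a b => S.eq_of_locally_eq' (fun x : PEmpty.{u + 1} => x.elim) ⊥ (fun x => x.elim) bot_le a b
    (fun x => x.elim)⟩

variable (p : P ⟶ Y) {ι : Type u} [Finite ι] (s : ι → (Y ⟶ P)) [∀ i, IsOpenImmersion (s i)]

/-- Restriction of the pushforward to a section. -/
def splitHom (hs : ∀ i, s i ≫ p = 𝟙 Y) (M : P.Modules) (i : ι) :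
    (Scheme.Modules.pushforward p).obj M ⟶ (Scheme.Modules.restrictFunctor (s i)).obj M :=
  (Scheme.Modules.pushforward p).map ((Scheme.Modules.restrictAdjunction (s i)).unit.app M) ≫
    ((Scheme.Modules.pushforwardComp (s i) p).hom.app _) ≫
    ((Scheme.Modules.pushforwardCongr (hs i)).hom.app _) ≫ (Scheme.Modules.pushforwardId Y).hom.app _

theorem image_le {hs : ∀ i, s i ≫ p = 𝟙 Y} (i : ι) (U : Y.Opens) : s i ''ᵁ U ≤ p ⁻¹ᵁ U := by
  rintro _ ⟨x, hx, rfl⟩
  show p (s i x) ∈ U
  rw [← Scheme.Hom.comp_apply, hs i]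
  exact hx

theorem splitHom_app (hs : ∀ i, s i ≫ p = 𝟙 Y) (M : P.Modules) (i : ι) (U : Y.Opens)
    (x : Γ(M, p ⁻¹ᵁ U)) :
    (splitHom p s hs M i).app U x =
      M.presheaf.map (homOfLE (image_le p s (hs := hs) i U)).op x := by
  simp only [splitHom, Scheme.Modules.Hom.comp_app, Scheme.Modules.pushforwardComp_hom_app_app,
    Scheme.Modules.pushforwardCongr_hom_app_app, Scheme.Modules.pushforwardId_hom_app_app]
  show M.presheaf.map _ (M.presheaf.map (homOfLE ((s i).image_preimage_le _)).op x) = _
  rw [← ConcreteCategory.comp_apply, ← Functor.map_comp]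
  rfl

/-- A finite family of disjoint sections covering the source splits pushforwards. -/
theorem nonempty_push_iso (hs : ∀ i, s i ≫ p = 𝟙 Y)
    (hdisj : ∀ i j, i ≠ j → Disjoint (Set.range (s i)) (Set.range (s j)))
    (hcov : ∀ y : P, ∃ i, y ∈ Set.range (s i)) (M : P.Modules) :
    Nonempty ((Scheme.Modules.pushforward p).obj M ≅
      ∐ fun i => (Scheme.Modules.pullback (s i)).obj M) := by
  classical
  let Q : ι → Y.Modules := fun i => (Scheme.Modules.restrictFunctor (s i)).obj M
  let ψ : (Scheme.Modules.pushforward p).obj M ⟶ ∏ᶜ Q := Pi.lift (splitHom p s hs M)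
  haveI : IsIso ψ := by
    rw [Scheme.Modules.Hom.isIso_iff_isIso_app]
    intro U
    refine (ConcreteCategory.isIso_iff_bijective _).2 ?_
    have hπ : ∀ (x : Γ(M, p ⁻¹ᵁ U)) (i : ι), (Pi.π Q i).app U (ψ.app U x) =
        M.presheaf.map (homOfLE (image_le p s (hs := hs) i U)).op x := fun x i => by
      rw [← splitHom_app p s hs M i U x, ← ConcreteCategory.comp_apply, ← Scheme.Modules.Hom.comp_app,
        Pi.lift_π]
    let S : TopCat.Sheaf AddCommGrpCat.{u} P := ⟨M.presheaf, M.isSheaf⟩
    let W : ι → P.Opens := fun i => s i ''ᵁ U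
    have hW : p ⁻¹ᵁ U ≤ iSup W := by
      intro y hy
      obtain ⟨i, x, rfl⟩ := hcov y
      refine Opens.mem_iSup.2 ⟨i, ⟨x, ?_, rfl⟩⟩
      have h1 : p (s i x) ∈ U := hy
      rwa [← Scheme.Hom.comp_apply, hs i] at h1
    refine ⟨fun x x' h => ?_, fun σ => ?_⟩
    · refine S.eq_of_locally_eq' W (p ⁻¹ᵁ U) (fun i => homOfLE (image_le p s (hs := hs) i U)) hW x x'
        fun i => ?_
      exact (hπ x i).symm.trans ((congrArg _ h).trans (hπ x' i))
    · let sf : ∀ i, Γ(M, W i) := fun i => (Pi.π Q i).app U σ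
      obtain ⟨x, hx, -⟩ := TopCat.Sheaf.existsUnique_gluing' S W (p ⁻¹ᵁ U)
        (fun i => homOfLE (image_le p s (hs := hs) i U)) hW sf (fun i j => by
          rcases eq_or_ne i j with rfl | hij
          · rfl
          · have hb : W i ⊓ W j = ⊥ := by
              refine SetLike.coe_injective (Set.disjoint_iff_inter_eq_empty.1 ?_)
              exact (hdisj i j hij).mono (Set.image_subset_range _ _) (Set.image_subset_range _ _)
            haveI : Subsingleton Γ(M, W i ⊓ W j) := by rw [hb]; exact subsingleton_bot M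
            exact Subsingleton.elim _ _)
      refine ⟨x, ?_⟩
      exact (Curves2.Glue.existsUnique_pi_section Q U fun i => (Pi.π Q i).app U σ).unique
        (fun i => (hπ x i).trans (hx i)) fun i => rfl
  haveI : HasFiniteBiproducts Y.Modules := HasFiniteBiproducts.of_hasFiniteProducts
  exact ⟨asIso ψ ≪≫ (biproduct.isoProduct Q).symm ≪≫ biproduct.isoCoproduct Q ≪≫
    Sigma.mapIso fun i => (Scheme.Modules.restrictFunctorIsoPullback (s i)).app M⟩

end Groth.Agent.IsogPull96
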